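import Cfsg.Prelude.Def_Characters
import Cfsg.Prelude.Def_Blocks
import Cfsg.Agent.Characters.Core
import Cfsg.Agent.CharDeep.LinearChar
import Cfsg.Agent.OddOrderCharacters.IndRes
import Cfsg.Agent.OddOrderCharacters.PF9.MackeyIrr
import Cfsg.Agent.H892.EP.Good_m3
import Cfsg.Agent.H332.EB.Two_m3
import Cfsg.Agent.H855.LB.Lift
import Mathlib
import Cfsg.Agent.H316.HT.Defs
import Cfsg.Agent.H678.Codeg
import Cfsg.Agent.H545.PQ.RowTool
import Cfsg.Prelude.Def_KGroupFacts
import Cfsg.Agent.FastGrp
import Cfsg.Agent.Prune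
set_option linter.all false

section
prune_inst 0x7f00000000000000000000000000000000000000000000000000000000000000000000000000000000000000000000000000000000000000000000000000000000000000000000000000000000000000003fffffffffffffffffffffffffffbeffbdffffffff

-- part: H112/HT/Ind
section
set_option linter.all false
open scoped Cfsg.Agent.FastGrp

/-!
# Characters induced from linear characters of `p`-power order and the principal block

* `lin_mem`: a linear character of `p`-power order is in the principal block;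
* `exists_mem_ind`: the induced character has a constituent in the principal block;
* `ind_mem`: if the induced character is irreducible, it is in the principal block;
* `exists_mackey`: the same with Mackey's criterion, with the degree;
* `ind_inv`: invariance of an induced character under an automorphism;
* `over_mem`: over a character of the principal block of a normal subgroup of `p`-power index;
* `lift_mem`: extension of an invariant character of the principal block, cyclic quotient.
-/

set_option autoImplicit false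

open Cfsg Cfsg.Agent.Characters.Core
open scoped ComplexConjugate

namespace Cfsg.Agent.H112.HT

universe u

variable {G : Type u} [Group G] {p : ℕ} {M : Ideal AlgInt}

/-- A linear character as an irreducible character. -/
def linIrr (l : G →* ℂˣ) : IrrCharacter G :=
  ⟨fun g => (l g : ℂ), Cfsg.Agent.CharDeep.LinearChar.isIrrCharacter_of_hom l⟩

theorem linIrr_apply (l : G →* ℂˣ) (g : G) : (linIrr l : G → ℂ) g = (l g : ℂ) := rfl

/-- A linear character of `p`-power order is trivial on the `p`-regular elements. -/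
theorem lin_regular [Fact p.Prime] (l : G →* ℂˣ) (hl : ∃ k : ℕ, l ^ p ^ k = 1) {g : G}
    (hg : ¬ p ∣ orderOf g) : l g = 1 := by
  obtain ⟨k, hk⟩ := hl
  have h1 : orderOf (l g) ∣ orderOf g := orderOf_map_dvd l g
  have h2 : orderOf (l g) ∣ p ^ k := by
    rw [orderOf_dvd_iff_pow_eq_one]
    have := congrArg (fun f : G →* ℂˣ => f g) hk
    simpa using this
  have h3 : Nat.Coprime (orderOf g) (p ^ k) :=
    Nat.Coprime.pow_right _ ((Nat.Prime.coprime_iff_not_dvd Fact.out).2 hg).symm
  exact orderOf_eq_one_iff.1 (Nat.eq_one_of_dvd_coprimes h3 h1 h2)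

variable [Finite G] [Fact p.Prime]

theorem regSum_pos {χ : G → ℂ} (h : ∀ g : G, ¬ p ∣ orderOf g → χ g = 1) :
    ∑ᶠ x ∈ {x : G | ¬ p ∣ orderOf x}, χ x ≠ 0 := by
  classical
  have := Fintype.ofFinite G
  have h1 : ∑ᶠ x ∈ {x : G | ¬ p ∣ orderOf x}, χ x = ∑ᶠ x ∈ {x : G | ¬ p ∣ orderOf x}, (1 : ℂ) :=
    finsum_mem_congr rfl fun x hx => h x hx
  rw [h1, finsum_mem_eq_finite_toFinset_sum _ (Set.toFinite _), Finset.sum_const, nsmul_eq_mul, mul_one]
  have h2 : (1 : G) ∈ (Set.toFinite {x : G | ¬ p ∣ orderOf x}).toFinset := by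
    rw [Set.Finite.mem_toFinset]
    show ¬ p ∣ orderOf (1 : G)
    rw [orderOf_one]
    exact (Fact.out : p.Prime).one_lt.ne' ∘ Nat.dvd_one.1
  have h3 : 0 < (Set.toFinite {x : G | ¬ p ∣ orderOf x}).toFinset.card := Finset.card_pos.2 ⟨_, h2⟩
  exact_mod_cast h3.ne'

/-- A character which is trivial on the `p`-regular elements is in the principal block. -/
theorem mem_of_regular (hM : IsPModular p M) (χ : IrrCharacter G)
    (h : ∀ g : G, ¬ p ∣ orderOf g → (χ : G → ℂ) g = 1) : χ ∈ principalBlock M G :=
  Cfsg.Agent.H892.EP.mem_of_regSum hM χ (regSum_pos h)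

/-- A linear character of `p`-power order is in the principal block. -/
theorem lin_mem (hM : IsPModular p M) (l : G →* ℂˣ) (hl : ∃ k : ℕ, l ^ p ^ k = 1) :
    linIrr l ∈ principalBlock M G :=
  mem_of_regular hM _ fun g hg => by rw [linIrr_apply, lin_regular l hl hg, Units.val_one]

/-- Over a linear character of `p`-power order of a subgroup there is a character of the principal
block. -/
theorem exists_mem_over (hM : IsPModular p M) (H : Subgroup G) [Fintype H] (l : H →* ℂˣ)
    (hl : ∃ k : ℕ, l ^ p ^ k = 1) :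
    ∃ χ ∈ principalBlock M G, classInner (fun h : H => (χ : G → ℂ) h) (fun h : H => (l h : ℂ)) ≠ 0 :=
  Cfsg.Agent.H892.EP.exists_over hM H (linIrr l) (lin_mem hM l hl)

/-- The character induced from a linear character of `p`-power order has a constituent in the
principal block. -/
theorem exists_mem_ind [Fintype G] (hM : IsPModular p M) (H : Subgroup G) [Fintype H] (l : H →* ℂˣ)
    (hl : ∃ k : ℕ, l ^ p ^ k = 1) :
    ∃ χ ∈ principalBlock M G, classInner (indFun H (fun h : H => (l h : ℂ))) (χ : G → ℂ) ≠ 0 := by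
  obtain ⟨χ, hχ, h⟩ := exists_mem_over hM H l hl
  refine ⟨χ, hχ, ?_⟩
  rw [Cfsg.Agent.OddOrderCharacters.IndRes.classInner_indFun_left H _ (isIrr_isClassFunction χ.2)]
  intro h0
  apply h
  have h1 := classInner_conj_symm (fun h : H => (l h : ℂ)) (fun h : H => (χ : G → ℂ) h)
  rw [show Cfsg.Agent.OddOrderCharacters.IndRes.res H (χ : G → ℂ) = fun h : H => (χ : G → ℂ) h from rfl] at h0
  rw [h0, map_zero] at h1
  exact h1.symm

/-- An irreducible character induced from a linear character of `p`-power order is in the principal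
block. -/
theorem ind_mem [Fintype G] (hM : IsPModular p M) (H : Subgroup G) (l : H →* ℂˣ)
    (hl : ∃ k : ℕ, l ^ p ^ k = 1) (hirr : IsIrrCharacter G (indFun H (fun h : H => (l h : ℂ)))) :
    (⟨_, hirr⟩ : IrrCharacter G) ∈ principalBlock M G := by
  classical
  have := Fintype.ofFinite H
  obtain ⟨χ, hχ, h⟩ := exists_mem_ind hM H l hl
  have h1 : (⟨_, hirr⟩ : IrrCharacter G) = χ := by
    by_contra hne
    exact h (classInner_irr_ne hirr χ.2 fun h2 => hne (Subtype.ext h2))
  rw [h1]
  exact hχ

/-- Mackey's criterion, degree and membership in the principal block. -/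
theorem exists_mackey [Fintype G] (hM : IsPModular p M) (H : Subgroup G) (l : H →* ℂˣ)
    (hl : ∃ k : ℕ, l ^ p ^ k = 1)
    (h : ∀ g : G, (∀ a b : H, (b : G) = g * a * g⁻¹ → l a = l b) → g ∈ H) :
    ∃ χ : IrrCharacter G, χ ∈ principalBlock M G ∧ (χ : G → ℂ) = indFun H (fun h : H => (l h : ℂ)) ∧
      charDegree (χ : G → ℂ) = H.index := by
  classical
  have := Fintype.ofFinite H
  have hirr := Cfsg.Agent.OddOrderCharacters.PF9.MackeyIrr.isIrr_ind H l h
  refine ⟨⟨_, hirr⟩, ind_mem hM H l hl hirr, rfl, ?_⟩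
  unfold charDegree
  have h1 : indFun H (fun h : H => (l h : ℂ)) 1 = (H.index : ℂ) := by
    rw [Cfsg.Agent.OddOrderCharacters.IndRes.indFun_apply_one, map_one, Units.val_one, mul_one]
  show ⌊(indFun H (fun h : H => (l h : ℂ)) 1).re⌋₊ = _
  rw [h1, Complex.natCast_re, Nat.floor_natCast]

/-- A character over a member of the principal block of a normal subgroup of `p`-power index is in
the principal block. -/
theorem over_mem (hM : IsPModular p M) (N : Subgroup G) [N.Normal] [Fintype N]
    (hidx : ∃ j : ℕ, N.index = p ^ j) {χ : IrrCharacter G} {ψ : IrrCharacter N}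
    (hψ : ψ ∈ principalBlock M N)
    (hover : classInner (fun n : N => (χ : G → ℂ) n) (ψ : N → ℂ) ≠ 0) :
    χ ∈ principalBlock M G :=
  Cfsg.Agent.H610.EB.mem_of_over hM N hidx hψ hover

/-- An invariant character of the principal block of a normal subgroup with cyclic quotient extends
to a member of the principal block. -/
theorem lift_mem (hM : IsPModular p M) (N : Subgroup G) [N.Normal] (hcyc : IsCyclic (G ⧸ N))
    (ψ : IrrCharacter N) (hψ : ψ ∈ principalBlock M N)
    (hinv : ∀ (g : G) (t : N), (ψ : N → ℂ) (MulAut.conjNormal g t) = (ψ : N → ℂ) t) :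
    ∃ χ : IrrCharacter G, χ ∈ principalBlock M G ∧ (∀ t : N, (χ : G → ℂ) t = (ψ : N → ℂ) t) ∧
      charDegree (χ : G → ℂ) = charDegree (ψ : N → ℂ) := by
  obtain ⟨χ, hχ, h⟩ := Cfsg.Agent.H855.LB.lift' hM N hcyc ψ hψ hinv
  refine ⟨χ, hχ, h, ?_⟩
  unfold charDegree
  have h1 := h 1
  rw [Subgroup.coe_one] at h1
  rw [h1]

omit [Fact p.Prime] [Finite G] in
/-- Invariance of an induced function under an automorphism: `φ` maps `H` onto the conjugate
`c H c⁻¹`, and `l` is compatible. -/
theorem ind_inv [Fintype G] (H : Subgroup G) (f : H → ℂ) (φ : MulAut G) (c : G)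
    (hc : ∀ h : H, ∃ h' : H, φ (h : G) = c * h' * c⁻¹ ∧ f h' = f h)
    (g : G) : indFun H f (φ g) = indFun H f g := by
  classical
  have hval : ∀ x : G, x ∈ H → c⁻¹ * φ x * c ∈ H := by
    intro x hx
    obtain ⟨h', h1, -⟩ := hc ⟨x, hx⟩
    have h2 : φ x = c * h' * c⁻¹ := h1
    have h3 : c⁻¹ * φ x * c = h' := by rw [h2]; group
    rw [h3]
    exact h'.2
  -- the map `x ↦ c⁻¹ φ(x) c` is a bijection of `H`
  set ψ : G ≃ G := (φ.toEquiv).trans ((MulAut.conj c⁻¹).toEquiv) with hψ
  have hψa : ∀ x, ψ x = c⁻¹ * φ x * c := by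
    intro x
    simp [hψ]
  have hiff : ∀ x : G, ψ x ∈ H ↔ x ∈ H := by
    have hf : Set.MapsTo ψ (H : Set G) (H : Set G) := fun x hx => by
      rw [hψa]
      exact hval x hx
    have hfin : (H : Set G).Finite := Set.toFinite _
    have hs : ψ '' (H : Set G) = (H : Set G) :=
      Set.eq_of_subset_of_ncard_le hf.image_subset
        (Set.ncard_image_of_injective _ ψ.injective).ge hfin
    intro x
    refine ⟨fun h => ?_, fun h => hf h⟩
    have h' : ψ x ∈ ψ '' (H : Set G) := by
      rw [hs]
      exact h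
    obtain ⟨y, hy, hyx⟩ := h'
    rw [← ψ.injective hyx]
    exact hy
  have key : ∀ x : G, extendByZero H f (ψ x) = extendByZero H f x := by
    intro x
    by_cases hx : x ∈ H
    · obtain ⟨h', h1, h2⟩ := hc ⟨x, hx⟩
      have h1' : φ x = c * h' * c⁻¹ := h1
      have h3 : ψ x = h' := by rw [hψa, h1']; group
      rw [h3]
      have e1 := S0150.extendByZero_coe H f h'
      have e2 := S0150.extendByZero_coe H f ⟨x, hx⟩
      rw [e1, h2]
      exact e2.symm
    · have hx' : ψ x ∉ H := fun h => hx ((hiff x).1 h)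
      rw [show extendByZero H f (ψ x) = 0 from ?_, show extendByZero H f x = 0 from ?_]
      · unfold extendByZero
        rw [Function.extend_apply']
        · rfl
        · rintro ⟨a, ha⟩
          exact hx (ha ▸ a.2)
      · unfold extendByZero
        rw [Function.extend_apply']
        · rfl
        · rintro ⟨a, ha⟩
          exact hx' (ha ▸ a.2)
  rw [S0150.indFun_apply, S0150.indFun_apply]
  congr 1
  refine (Fintype.sum_equiv ((φ.toEquiv).trans (Equiv.mulRight c)) _ _ fun x => ?_).symm
  rw [← key (x⁻¹ * g * x)]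
  congr 1
  rw [hψa]
  simp only [Equiv.trans_apply, Equiv.coe_mulRight]
  show c⁻¹ * φ (x⁻¹ * g * x) * c = (φ x * c)⁻¹ * φ g * (φ x * c)
  rw [map_mul, map_mul, map_inv]
  group

end Cfsg.Agent.H112.HT
end

-- part: H112/HT/Glue
section
set_option linter.all false
open scoped Cfsg.Agent.FastGrp

/-!
# S4933: from a normal subgroup of `p'`-index over the socle to the row

* `goodOn_of_ext`: `N ≤ K` normal in `A`, `p ∤ |K : N|`, `χ ∈ B₀(A)` restricting to an irreducible
  character `ψ` of `K` with `1 ≤ v_p(ψ(1)) ≤ a`: then `GoodOn p a M N`;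
* `exists_K`: if `Out(S)` has a homomorphism to a cyclic group with kernel of order prime to `p`, then
  every almost simple group over `S` has a normal subgroup `K` over the socle with `p ∤ |K : N|` and
  `A / K` a cyclic `p`-group;
* `row_of`: Lemma D and the structure of `Out(S)` give `Row 2 S`.
-/

set_option autoImplicit false

open Cfsg Subgroup

namespace Cfsg.Agent.H112.HT

open Cfsg.Agent.H316.HT

universe u v w

theorem vd_eq_of_res {A : Type u} [Group A] {K : Subgroup A} {p : ℕ} {ψ : K → ℂ} {χ : A → ℂ}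
    (hres : ∀ t : K, χ t = ψ t) : vd p χ = vd p ψ := by
  unfold vd charDegree
  have h1 := hres 1
  rw [Subgroup.coe_one] at h1
  rw [h1]

/-- From an irreducible restriction to a normal subgroup of `p'`-index over the socle. -/
theorem goodOn_of_ext {p : ℕ} [Fact p.Prime] {A : Type u} [Group A] [Finite A] (N K : Subgroup A)
    [N.Normal] (hodd : ¬ p ∣ N.relIndex K) {M : Ideal AlgInt}
    {a : ℕ} (ψ : IrrCharacter K) (χ : IrrCharacter A) (hχ : χ ∈ principalBlock M A)
    (hres : ∀ t : K, (χ : A → ℂ) t = (ψ : K → ℂ) t) (h0 : 0 < vd p (ψ : K → ℂ))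
    (ha : vd p (ψ : K → ℂ) ≤ a) : GoodOn p a M N := by
  refine ⟨χ, hχ, ?_, ?_, ?_⟩
  · by_contra hcon
    push Not at hcon
    have h1 : N.subgroupOf K ≤ Cfsg.Agent.H686.CharKit.chKer ψ := by
      intro t ht
      rw [Subgroup.mem_subgroupOf] at ht
      have h2 := hcon t ht
      have h3 := hres 1
      rw [Subgroup.coe_one] at h3
      rw [hres t, h3] at h2
      exact h2
    have h2 := Cfsg.Agent.H678.Codeg.charDegree_dvd_index ψ (N.subgroupOf K) h1
    have h4 : p ∣ charDegree (ψ : K → ℂ) := Nat.dvd_of_factorization_pos h0.ne'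
    exact hodd (h4.trans h2)
  · rw [vd_eq_of_res hres]
    exact h0
  · rw [vd_eq_of_res hres]
    exact ha

section Out

variable {A : Type u} [Group A] [Finite A] (N : Subgroup A) [hN : N.Normal]
  {S : Type v} [Group S] (e : N ≃* S)

/-- The action on the socle. -/
noncomputable def act : A →* MulAut S :=
  (MulAut.congr e).toMonoidHom.comp (MulAut.conjNormal (H := N))

omit [Finite A] in
theorem act_apply (x : A) (s : S) :
    act N e x s = e ⟨x * (e.symm s : N) * x⁻¹, hN.conj_mem _ (e.symm s).2 x⟩ := rfl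

omit [Finite A] in
theorem act_mem (hC : centralizer (N : Set A) = ⊥) (x : A) :
    act N e x ∈ (MulAut.conj : S →* MulAut S).range ↔ x ∈ N := by
  constructor
  · rintro ⟨s, hs⟩
    have h2 : ((e.symm s : N) : A)⁻¹ * x ∈ centralizer (N : Set A) := by
      rw [mem_centralizer_iff]
      intro m hm
      have h3 := congrArg (fun f : MulAut S => ((e.symm (f (e ⟨m, hm⟩)) : N) : A)) hs
      simp only [MulAut.conj_apply, act_apply, map_mul, map_inv, MulEquiv.symm_apply_apply,
        coe_mul, coe_inv] at h3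
      rw [eq_mul_inv_iff_mul_eq] at h3
      calc m * (((e.symm s : N) : A)⁻¹ * x)
          = ((e.symm s : N) : A)⁻¹ * (((e.symm s : N) : A) * m * ((e.symm s : N) : A)⁻¹ * x) := by group
        _ = ((e.symm s : N) : A)⁻¹ * x * m := by rw [h3]; group
    rw [hC, mem_bot] at h2
    rw [inv_mul_eq_one] at h2
    rw [← h2]
    exact (e.symm s).2
  · intro hx
    refine ⟨e ⟨x, hx⟩, ?_⟩
    ext s
    rw [act_apply, MulAut.conj_apply]
    conv_lhs => rw [← e.apply_symm_apply s]
    rw [← map_mul, ← map_inv, ← map_mul]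
    rfl

/-- The map to the outer automorphism group. -/
noncomputable def toOut : A →* Out S := (QuotientGroup.mk' (Inn S)).comp (act N e)

omit [Finite A] in
theorem ker_toOut (hC : centralizer (N : Set A) = ⊥) : (toOut N e).ker = N := by
  ext x
  rw [MonoidHom.mem_ker]
  show (QuotientGroup.mk' (Inn S)) (act N e x) = 1 ↔ _
  rw [QuotientGroup.mk'_apply, QuotientGroup.eq_one_iff]
  exact act_mem N e hC x

include e in
/-- The normal subgroup of `p'`-index over the socle with cyclic quotient of `p`-power order. -/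
theorem exists_K {p : ℕ} [hp : Fact p.Prime] (hC : centralizer (N : Set A) = ⊥) [Finite S]
    {C : Type w} [CommGroup C] [IsCyclic C] [Finite C] (g : Out S →* C)
    (hg : ¬ p ∣ Nat.card g.ker) :
    ∃ (K : Subgroup A) (_ : K.Normal), N ≤ K ∧ IsCyclic (A ⧸ K) ∧ (∃ j : ℕ, K.index = p ^ j) ∧
      ¬ p ∣ N.relIndex K := by
  classical
  set m : ℕ := ordCompl[p] (Nat.card C) with hm
  have hmC : p ^ (Nat.card C).factorization p * m = Nat.card C := Nat.ordProj_mul_ordCompl_eq_self _ _
  have hmp : ¬ p ∣ m := Nat.not_dvd_ordCompl hp.out Nat.card_pos.ne'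
  set h : A →* C := (powMonoidHom m).comp (g.comp (toOut N e)) with hh
  have happ : ∀ x, h x = g (toOut N e x) ^ m := fun x => rfl
  have hker := ker_toOut N e hC
  have hNK : N ≤ h.ker := by
    intro x hx
    rw [← hker, MonoidHom.mem_ker] at hx
    rw [MonoidHom.mem_ker, happ, hx, map_one, one_pow]
  refine ⟨h.ker, inferInstance, hNK, ?_, ?_, ?_⟩
  · have := Subgroup.isCyclic h.range
    exact isCyclic_of_surjective (QuotientGroup.quotientKerEquivRange h).symm
      (QuotientGroup.quotientKerEquivRange h).symm.surjective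
  · rw [Subgroup.index_ker]
    have h1 : IsPGroup p h.range := by
      rintro ⟨y, x, rfl⟩
      refine ⟨(Nat.card C).factorization p, ?_⟩
      apply Subtype.ext
      show (h x) ^ p ^ _ = 1
      rw [happ, ← pow_mul, mul_comm, hmC]
      exact pow_card_eq_one'
    exact IsPGroup.iff_card.1 h1
  · intro hdvd
    -- the image of the kernel in `Out S`
    set f := (toOut N e).comp h.ker.subtype with hf
    have h1 : N.relIndex h.ker = Nat.card f.range := by
      rw [← Subgroup.index_ker]
      have h2 : f.ker = N.subgroupOf h.ker := by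
        ext x
        rw [MonoidHom.mem_ker, Subgroup.mem_subgroupOf]
        show toOut N e x = 1 ↔ _
        rw [← MonoidHom.mem_ker, hker]
      rw [h2]
      rfl
    rw [h1] at hdvd
    obtain ⟨⟨y, x, hx⟩, hy⟩ := exists_prime_orderOf_dvd_card' p hdvd
    have hyo : orderOf y = p := by
      rw [← hy]
      exact Subgroup.orderOf_coe (⟨y, x, hx⟩ : f.range)
    have h3 : g y ^ m = 1 := by
      have h4 : h (x : A) = 1 := x.2
      rw [happ] at h4
      have h5 : toOut N e (x : A) = y := hx
      rwa [h5] at h4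
    have h4 : g y ^ p = 1 := by rw [← map_pow, ← hyo, pow_orderOf_eq_one, map_one]
    have h5 : g y = 1 := by
      have h6 : orderOf (g y) ∣ m := orderOf_dvd_of_pow_eq_one h3
      have h7 : orderOf (g y) ∣ p := orderOf_dvd_of_pow_eq_one h4
      rcases (Nat.dvd_prime hp.out).1 h7 with h8 | h8
      · exact orderOf_eq_one_iff.1 h8
      · rw [h8] at h6
        exact absurd h6 hmp
    apply hg
    have h6 : orderOf (⟨y, h5⟩ : g.ker) = p := by
      rw [← hyo]
      exact (Subgroup.orderOf_coe (⟨y, h5⟩ : g.ker)).symm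
    rw [← h6]
    exact orderOf_dvd_natCard _

end Out

/-- A normal subgroup of `p'`-index contains every `p`-element. -/
theorem mem_of_pelt {A : Type u} [Group A] [Finite A] {p : ℕ} [hp : Fact p.Prime] (N : Subgroup A)
    [N.Normal] (h : ¬ p ∣ N.index) {x : A} (hx : ∃ k : ℕ, orderOf x = p ^ k) : x ∈ N := by
  obtain ⟨k, hk⟩ := hx
  have h1 : orderOf (QuotientGroup.mk' N x) ∣ p ^ k := by
    rw [← hk]
    exact orderOf_map_dvd _ x
  have h2 : orderOf (QuotientGroup.mk' N x) ∣ N.index := orderOf_dvd_natCard _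
  have h3 : Nat.Coprime (p ^ k) N.index := Nat.Coprime.pow_left _ ((Nat.Prime.coprime_iff_not_dvd hp.out).2 h)
  have h4 := orderOf_eq_one_iff.1 (Nat.eq_one_of_dvd_coprimes h3 h1 h2)
  rwa [QuotientGroup.mk'_apply, QuotientGroup.eq_one_iff] at h4

/-- Sylow `p`-subgroups of an overgroup of `p'`-index. -/
theorem sylow_over {A : Type u} [Group A] [Finite A] {p : ℕ} [hp : Fact p.Prime] (N K : Subgroup A)
    [N.Normal] (hNK : N ≤ K) (hodd : ¬ p ∣ N.relIndex K) (T : Sylow p K) :
    ∃ T' : Sylow p N, Nonempty ((T' : Subgroup N) ≃* (T : Subgroup K)) := by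
  have hT1 : (T : Subgroup K).map K.subtype ≤ N := by
    rintro _ ⟨t, ht, rfl⟩
    have h1 : t ∈ N.subgroupOf K := by
      refine mem_of_pelt (N.subgroupOf K) hodd ?_
      have h2 := T.2
      rw [IsPGroup.iff_orderOf] at h2
      obtain ⟨k, hk⟩ := h2 ⟨t, ht⟩
      exact ⟨k, by rw [← hk]; exact (Subgroup.orderOf_coe (⟨t, ht⟩ : (T : Subgroup K)))⟩
    exact h1
  have e1 : (((T : Subgroup K).map K.subtype).subgroupOf N) ≃* ((T : Subgroup K).map K.subtype : Subgroup A) :=
    Subgroup.subgroupOfEquivOfLe hT1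
  have e2 : (T : Subgroup K) ≃* ((T : Subgroup K).map K.subtype : Subgroup A) :=
    (T : Subgroup K).equivMapOfInjective K.subtype K.subtype_injective
  have hcard : Nat.card (((T : Subgroup K).map K.subtype).subgroupOf N) =
      p ^ (Nat.card N).factorization p := by
    rw [Nat.card_congr e1.toEquiv, ← Nat.card_congr e2.toEquiv, T.card_eq_multiplicity]
    have h1 : Nat.card N * N.relIndex K = Nat.card K := by
      rw [Subgroup.relIndex, ← Nat.card_congr (Subgroup.subgroupOfEquivOfLe hNK).toEquiv]
      exact Subgroup.card_mul_index _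
    rw [← h1, Nat.factorization_mul Nat.card_pos.ne' (by
      intro h0
      rw [h0] at hodd
      exact hodd (dvd_zero _)), Finsupp.add_apply, Nat.factorization_eq_zero_of_not_dvd hodd, add_zero]
  exact ⟨Sylow.ofCard _ hcard, ⟨e1.trans e2.symm⟩⟩

/-- **The glue**: Lemma D (for a normal subgroup with cyclic quotient of 2-power order whose Sylow
2-subgroups satisfy `Q`) gives the row. -/
theorem row_of {S : Type v} [Group S] [Finite S] {C : Type w} [CommGroup C] [IsCyclic C] [Finite C]
    (g : Out S →* C) (hg : Odd (Nat.card g.ker)) (Q : ∀ (T : Type) [Group T], Prop)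
    (hQ : ∀ (T T' : Type) [Group T] [Group T'], Nonempty (T ≃* T') → Q T → Q T')
    (hS : ∀ (N : Type) [Group N] [Finite N], Nonempty (N ≃* S) → ∀ T : Sylow 2 N, Q (T : Subgroup N))
    (lemD : ∀ (A : Type) [Group A] [Finite A] (K : Subgroup A) [K.Normal], IsCyclic (A ⧸ K) →
      (∃ j : ℕ, K.index = 2 ^ j) → (∀ T : Sylow 2 K, Q (T : Subgroup K)) →
      ∀ M : Ideal AlgInt, IsPModular 2 M → ∃ χ : IrrCharacter A, χ ∈ principalBlock M A ∧
        ∃ ψ : IrrCharacter K, (∀ t : K, (χ : A → ℂ) t = (ψ : K → ℂ) t) ∧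
          (charDegree (ψ : K → ℂ)).factorization 2 = 1) : Row 2 S := by
  intro A _ _ N _ e hC M hM P a ha _
  obtain ⟨e⟩ := e
  have : Fact (Nat.Prime 2) := ⟨Nat.prime_two⟩
  have hg2 : ¬ 2 ∣ Nat.card g.ker := by
    rw [← even_iff_two_dvd, Nat.not_even_iff_odd]
    exact hg
  obtain ⟨K, hK, hNK, hcyc, hidx, hodd⟩ := exists_K N e (p := 2) hC g hg2
  obtain ⟨χ, hχ, ψ, hres, hv⟩ := lemD A K hcyc hidx (fun T => by
    obtain ⟨T', ⟨e'⟩⟩ := sylow_over N K hNK hodd T
    exact hQ _ _ ⟨e'⟩ (hS N ⟨e⟩ T')) M hM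
  refine goodOn_of_ext N K hodd ψ χ hχ hres ?_ ?_
  · show 0 < (charDegree (ψ : K → ℂ)).factorization 2
    rw [hv]
    exact one_pos
  · show (charDegree (ψ : K → ℂ)).factorization 2 ≤ a
    rw [hv]
    exact ha

end Cfsg.Agent.H112.HT

private theorem dce_e0f89294099b : _root_.True := by
  try have : _root_.True := by simp only [_root_.Cfsg.Agent.H112.HT.act.congr_simp]
  exact _root_.True.intro
end
end
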